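import Cfsg.Agent.Lib.Fus.M22U.Thirteen.Data
import Cfsg.Agent.Lib.Spor.Cos.Fi22.Trans

/-! Checks for the element of order thirteen of Fi22. -/

set_option autoImplicit false
set_option maxRecDepth 100000
set_option maxHeartbeats 4000000

namespace Cfsg.Agent.Fus.M22U.Thirteen

open Cfsg.Agent.Spor.Cos Cfsg.Agent.Spor.Cos.Fi22

/-- A word read off the orbit tree. -/
noncomputable def walk : ℕ → ℕ → List ℕ
  | 0, _ => []
  | f + 1, j => bif Nat.beq j 0 then [] else
      (topB.ent.at j >>> 32) :: walk f ((topB.ent.at j >>> 16) % 65536)

/-- A word carrying the first point to `q`. -/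
noncomputable def wordPt (q : ℕ) : List ℕ := walk 40 (topB.pos.at q)

/-- The word of the transposition of a point. -/
noncomputable def trWord (q : ℕ) : List ℕ := wordPt q ++ [0] ++ (wordPt q).reverse

/-- Commuting transpositions. -/
noncomputable def rel (q r : ℕ) : Bool := sb0.mem (actB.go (wordPt q).reverse r)

/-- Powers of the element at a point. -/
noncomputable def xit : ℕ → ℕ → ℕ
  | 0, q => q
  | i + 1, q => actB.go xw (xit i q)

/-- A point has the pattern. -/
noncomputable def fits (q : ℕ) : Bool := (List.range 12).all fun i => rel q (xit (i + 1) q) == pat.getD i false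

/-- A block of the points with the pattern. -/
noncomputable def candBlock (b : ℕ) : List ℕ := ((List.range 585).map (585 * b + ·)).filter fits

/-- The derived points. -/
noncomputable def closure : List (ℕ × ℕ) → List ℕ → List ℕ
  | [], L => L
  | (i, j) :: r, L => closure r (L ++ [actB.go (trWord (L.getD i start)) (L.getD j start)])

/-- The orbit of the point under the element. -/
noncomputable def orbit13 : List ℕ := (List.range 13).map fun i => xit i start

theorem word_ok : ((List.range 3510).all fun q => Nat.beq (actB.go (wordPt q) 0) q &&
    (wordPt q).all fun s => Nat.blt s 9) = true := by decide +kernel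

theorem start_ok : (Nat.blt start 3510 && fits start) = true := by decide +kernel

theorem cand_count : Nat.ble ((candBlock 0).length + (candBlock 1).length + (candBlock 2).length +
    (candBlock 3).length + (candBlock 4).length + (candBlock 5).length) 39 = true := by decide +kernel

theorem closure_ok : (Nat.beq gpos.length 9 && Nat.beq genWords.length 9 && (List.range 9).all fun s =>
    Nat.beq ((closure ders orbit13).getD (gpos.getD s 0) start) (actB.go (genWords.getD s []) 0) &&
      (genWords.getD s []).all (fun t => Nat.blt t 9)) = true := by decide +kernel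

theorem gen_ok : ((List.range 9).all fun s =>
    chkPow actA [0, 1, 2, 3, 67, 4, 5, 23] 1 (genWords.getD s [] ++ [0] ++ (genWords.getD s []).reverse ++ [s])) = true := by
  decide +kernel

theorem x_pow_ok : chkPow actA [0, 1, 2, 3, 67, 4, 5, 23] 13 xw = true := by decide +kernel

theorem x_ne_ok : (Nat.beq (xit 1 start) start) = false := by decide +kernel

theorem n_ok : chkPow actA [0, 1, 2, 3, 67, 4, 5, 23] 1
    (nw ++ xw ++ nw.reverse ++ (xw ++ xw ++ xw ++ xw).reverse) = true := by decide +kernel

theorem letters_ok : Act.lettersOk 9 [xw, nw] = true := by decide +kernel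

end Cfsg.Agent.Fus.M22U.Thirteen
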