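/-! Data for an element of order thirteen of Fi22. -/

set_option autoImplicit false

namespace Cfsg.Agent.Fus.M22U.Thirteen

/-- The element. -/
def xw : List Nat := [3, 8, 1, 8, 5, 5, 4, 8, 2, 0, 7, 5]

/-- An element conjugating it to its fourth power. -/
def nw : List Nat := [2, 3, 7, 8, 4, 3, 7, 5, 4, 3, 2, 0, 1, 0, 1, 0, 2, 3, 4, 5, 7, 3, 4, 8, 7, 3, 2, 3, 7, 8, 7, 3, 4, 1, 2, 3, 7, 5, 4, 3, 2, 1, 0, 1, 2, 3, 4, 5, 7, 3, 2, 1, 4, 3, 7, 8, 7, 3, 2, 3, 7, 8, 2, 3, 4, 1, 2, 3, 7, 5, 4, 3, 2, 1, 0, 1, 2, 3, 4, 5, 7, 3, 2, 1, 4, 3, 2, 8, 7, 3, 2, 5, 4, 2, 3, 1, 2, 0, 1, 0, 1, 0, 2, 1, 3, 2, 4, 5, 3, 7, 2, 3, 4, 1, 2, 3, 7, 5, 4, 3, 2, 1, 0, 1, 2, 3, 4, 5, 7, 3, 2, 1, 4, 3, 2, 7, 3, 5, 4, 3, 7, 2, 3, 4, 1, 2, 3, 7, 5, 4, 3, 2, 1, 0, 1, 2, 3, 4, 5, 7, 3, 2, 1, 4, 3, 2, 7, 3, 4, 5]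

/-- A point. -/
def start : Nat := 73

/-- Its pattern. -/
def pat : List Bool := [true, true, true, false, false, false, false, false, false, true, true, true]

/-- Derived points, as pairs of earlier positions. -/
def ders : List (Nat × Nat) := [(4, 0), (5, 0), (6, 0), (6, 1), (6, 2), (7, 0), (7, 2), (7, 3), (8, 0), (8, 1), (8, 2), (9, 2), (9, 3), (11, 7), (12, 6), (13, 11), (14, 1), (14, 11), (15, 1), (16, 7), (17, 8), (18, 1), (21, 17), (22, 3), (23, 20), (25, 21), (26, 24), (31, 27), (32, 26), (33, 29), (34, 19), (34, 30), (35, 28), (37, 36)]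

/-- The positions of the generators. -/
def gpos : List Nat := [39, 42, 45, 46, 40, 43, 41, 44, 38]

/-- Words carrying the first point to the generators. -/
def genWords : List (List Nat) := [[], [0, 1], [1, 2, 0, 1], [2, 3, 1, 2, 0, 1], [3, 4, 2, 3, 1, 2, 0, 1], [4, 5, 3, 4, 2, 3, 1, 2, 0, 1], [5, 6, 4, 5, 3, 4, 2, 3, 1, 2, 0, 1], [3, 7, 2, 3, 1, 2, 0, 1], [7, 8, 3, 7, 2, 3, 1, 2, 0, 1]]

end Cfsg.Agent.Fus.M22U.Thirteen
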