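import Cfsg.Agent.Lib.Fus.M22U.Thirteen.Checks
import Mathlib.GroupTheory.Sylow
import Mathlib.GroupTheory.SpecificGroups.Cyclic

/-! The subgroups of order thirteen of Fi22 are self-centralising with automiser of order six. -/

set_option autoImplicit false
set_option linter.style.haveILetI false
set_option maxRecDepth 20000

open Cfsg.Spor

namespace Cfsg.Agent.Fus.M22U.Thirteen

open Cfsg.Agent.Spor.Cos Cfsg.Agent.Spor.Cos.Fi22

/-- The element. -/
noncomputable def x : Spor.Fi22 := ev g xw

/-- The conjugating element. -/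
noncomputable def n : Spor.Fi22 := ev g nw

/-- The point as a point of the action. -/
noncomputable def pnt : Fin actB.N :=
  ⟨start, Nat.le_of_ble_eq_true ((Bool.and_eq_true _ _).mp start_ok).1⟩

theorem lt9 {w : List ℕ} (h : w ∈ [xw, nw]) : ∀ s ∈ w, s < 9 := Act.lt_of_lettersOk letters_ok h

theorem eval_one {w : List ℕ} (hl : ∀ s ∈ w, s < 9) (h : chkPow actA [0, 1, 2, 3, 67, 4, 5, 23] 1 w = true) :
    ev g w = 1 := by
  refine eq_one_of_chk ?_ h
  simp only [Act.lettersOk, List.all_cons, List.all_nil, Bool.and_true, List.all_eq_true]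
  exact fun s hs => Nat.ble_eq_true_of_le (hl s hs)

theorem x_pow : x ^ 13 = 1 := pow_eq_one homA det (lt9 (by simp)) x_pow_ok

theorem wordPt_spec (q : Fin actB.N) : (∀ s ∈ wordPt q, s < 9) ∧ piB (ev g (wordPt q)) baseB = q := by
  have h := List.all_eq_true.mp word_ok (q : ℕ) (List.mem_range.mpr q.2)
  rw [Bool.and_eq_true, List.all_eq_true] at h
  have hl : ∀ s ∈ wordPt q, s < 9 := fun s hs => Nat.le_of_ble_eq_true (h.2 s hs)
  exact ⟨hl, Fin.ext ((homB.apply_ev _ hl baseB).trans (Nat.eq_of_beq_eq_true h.1))⟩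

/-- The transposition of a point. -/
noncomputable def tp (q : Fin actB.N) : Spor.Fi22 := ev g (wordPt q) * tz * (ev g (wordPt q))⁻¹

theorem inv_apply {y : Spor.Fi22} {p q : Fin actB.N} (h : piB y p = q) : piB y⁻¹ q = p := by
  rw [map_inv, Equiv.Perm.inv_eq_iff_eq, h]

theorem commute_tz {y : Spor.Fi22} (h : piB y baseB = baseB) : Commute y tz := tz_comm y (mem_sh_iff.2 h)

theorem stab_of_commute {y : Spor.Fi22} (h : Commute y tz) : piB y baseB = baseB :=
  mem_sh_iff.1 (centralizer_tz.le (Subgroup.mem_centralizer_singleton_iff.2 h.eq))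

theorem tp_equivariant {y : Spor.Fi22} {p q : Fin actB.N} (h : piB y p = q) : y * tp p * y⁻¹ = tp q := by
  obtain ⟨u, hu⟩ : ∃ u, u = (ev g (wordPt q))⁻¹ * y * ev g (wordPt p) := ⟨_, rfl⟩
  have hfix : piB u baseB = baseB := by
    rw [hu, map_mul, map_mul, Equiv.Perm.mul_apply, Equiv.Perm.mul_apply, (wordPt_spec p).2, h]
    exact inv_apply (wordPt_spec q).2
  have hc := commute_tz hfix
  calc y * tp p * y⁻¹ = ev g (wordPt q) * (u * tz * u⁻¹) * (ev g (wordPt q))⁻¹ := by rw [hu, tp]; group
    _ = tp q := by rw [hc.eq, mul_inv_cancel_right, tp]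

theorem fixed_iff {y : Spor.Fi22} {p : Fin actB.N} : piB y p = p ↔ Commute y (tp p) := by
  refine ⟨fun h => ?_, fun h => ?_⟩
  · have e := tp_equivariant h
    exact mul_inv_eq_iff_eq_mul.mp e
  · obtain ⟨u, hu⟩ : ∃ u, u = (ev g (wordPt p))⁻¹ * y * ev g (wordPt p) := ⟨_, rfl⟩
    have hc : Commute u tz := by
      show u * tz = tz * u
      have e : y * (ev g (wordPt p) * tz * (ev g (wordPt p))⁻¹) =
          (ev g (wordPt p) * tz * (ev g (wordPt p))⁻¹) * y := h
      calc u * tz = (ev g (wordPt p))⁻¹ * (y * (ev g (wordPt p) * tz * (ev g (wordPt p))⁻¹)) *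
            ev g (wordPt p) := by rw [hu]; group
        _ = tz * u := by rw [e, hu]; group
    have hf := stab_of_commute hc
    have e : y = ev g (wordPt p) * u * (ev g (wordPt p))⁻¹ := by rw [hu]; group
    rw [e, map_mul, map_mul, Equiv.Perm.mul_apply, Equiv.Perm.mul_apply,
      inv_apply (wordPt_spec p).2, hf, (wordPt_spec p).2]

theorem ev_trWord (p : Fin actB.N) : ev g (trWord p) = tp p := by
  rw [trWord, ev_append, ev_append, ev_reverse (fun s _ => g_sq s) _ (wordPt_spec p).1]
  rfl

theorem fixed_step {y : Spor.Fi22} {p q : Fin actB.N} (hp : piB y p = p) (hq : piB y q = q) :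
    piB y (piB (tp p) q) = piB (tp p) q := by
  have hc := fixed_iff.mp hp
  conv_rhs => rw [← hq]
  rw [← Equiv.Perm.mul_apply, ← Equiv.Perm.mul_apply, ← map_mul, ← map_mul, hc.eq]

theorem trWord_lt (p : Fin actB.N) : ∀ s ∈ trWord p, s < 9 := by
  intro s hs
  simp only [trWord, List.mem_append, List.mem_singleton, List.mem_reverse] at hs
  rcases hs with (hs | rfl) | hs
  exacts [(wordPt_spec p).1 s hs, by norm_num, (wordPt_spec p).1 s hs]

theorem zero_lt : 0 < actB.N := topB_ok.root_lt

/-- Points listed below the bound and fixed. -/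
def Good (y : Spor.Fi22) (a : ℕ) : Prop := ∃ h : a < actB.N, piB y ⟨a, h⟩ = ⟨a, h⟩

theorem closure_good {y : Spor.Fi22} (hs : Good y start) : ∀ (d : List (ℕ × ℕ)) (L : List ℕ),
    (∀ a ∈ L, Good y a) → ∀ a ∈ closure d L, Good y a
  | [], _, hL => hL
  | (i, j) :: r, L, hL => by
    refine closure_good hs r _ ?_
    intro a ha
    rcases List.mem_append.mp ha with ha | ha
    · exact hL a ha
    rw [List.mem_singleton.mp ha]
    have get : ∀ k, Good y (L.getD k start) := fun k => by
      by_cases hk : k < L.length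
      · rw [List.getD_eq_getElem _ _ hk]; exact hL _ (List.getElem_mem hk)
      · rw [List.getD_eq_default _ _ (not_lt.mp hk)]; exact hs
    obtain ⟨hi, fi⟩ := get i
    obtain ⟨hj, fj⟩ := get j
    have e := homB.apply_ev _ (trWord_lt ⟨_, hi⟩) ⟨_, hj⟩
    rw [ev_trWord] at e
    refine ⟨e ▸ (piB (tp ⟨_, hi⟩) ⟨_, hj⟩).2, ?_⟩
    have e' : (⟨_, e ▸ (piB (tp ⟨_, hi⟩) ⟨_, hj⟩).2⟩ : Fin actB.N) = piB (tp ⟨_, hi⟩) ⟨_, hj⟩ :=
      Fin.ext e.symm
    rw [e']
    exact fixed_step fi fj

/-- The iterate as a point. -/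
theorem xit_eq (p : Fin actB.N) : ∀ i, ((piB (x ^ i) p : Fin actB.N) : ℕ) = xit i p
  | 0 => by simp [xit]
  | i + 1 => by
    rw [pow_succ', map_mul, Equiv.Perm.mul_apply, x, homB.apply_ev _ (lt9 (by simp))]
    exact congrArg (actB.go xw) (xit_eq p i)

theorem gen_word (s : ℕ) (hs : s < 9) : (∀ t ∈ genWords.getD s [], t < 9) ∧
    ev g (genWords.getD s []) * tz * (ev g (genWords.getD s []))⁻¹ = g s := by
  have h := closure_ok
  simp only [Bool.and_eq_true, List.all_eq_true, List.mem_range] at h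
  have hl : ∀ t ∈ genWords.getD s [], t < 9 := fun t ht => Nat.le_of_ble_eq_true ((h.2 s hs).2 t ht)
  refine ⟨hl, ?_⟩
  have e := eval_one (w := genWords.getD s [] ++ [0] ++ (genWords.getD s []).reverse ++ [s]) ?_
    (List.all_eq_true.mp gen_ok s (List.mem_range.mpr hs))
  · rw [ev_append, ev_append, ev_append, ev_reverse (fun t _ => g_sq t) _ hl] at e
    have e' : ev g (genWords.getD s []) * tz * (ev g (genWords.getD s []))⁻¹ * g s = 1 := by
      simpa [ev, tz] using e
    rw [eq_inv_of_mul_eq_one_left e', inv_eq_of_mul_eq_one_right (g_sq s)]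
  · intro t ht
    simp only [List.mem_append, List.mem_singleton, List.mem_reverse] at ht
    rcases ht with ((ht | rfl) | ht) | rfl
    exacts [hl t ht, by norm_num, hl t ht, hs]

theorem center_eq : Subgroup.center Spor.Fi22 = ⊥ := by
  haveI := isSimple
  refine (Subgroup.Normal.eq_bot_or_eq_top inferInstance).resolve_right fun ht => ?_
  have h : ∀ a b : Spor.Fi22, a * b = b * a := fun a b =>
    Subgroup.mem_center_iff.1 (ht ▸ Subgroup.mem_top b) a
  refine pair_ne_one 7 (by simp) ?_
  rw [ev_pair 7 (by simp), h (ev g (repWord 7)) tz, mul_inv_cancel_right, tz_sq]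

/-- A centralising element fixing the point is trivial. -/
theorem eq_one {y : Spor.Fi22} (hy : Commute y x) (hf : piB y pnt = pnt) : y = 1 := by
  have horb : ∀ a ∈ orbit13, Good y a := by
    intro a ha
    obtain ⟨i, -, rfl⟩ := List.mem_map.mp ha
    refine ⟨(xit_eq pnt i) ▸ (piB (x ^ i) pnt).2, ?_⟩
    have e : (⟨xit i start, (xit_eq pnt i) ▸ (piB (x ^ i) pnt).2⟩ : Fin actB.N) = piB (x ^ i) pnt :=
      Fin.ext (xit_eq pnt i).symm
    rw [e]
    conv_rhs => rw [← hf]
    rw [← Equiv.Perm.mul_apply, ← Equiv.Perm.mul_apply, ← map_mul, ← map_mul, (hy.pow_right i).eq]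
  have hall := closure_good (y := y) ⟨pnt.2, hf⟩ ders orbit13 horb
  have h := closure_ok
  simp only [Bool.and_eq_true, List.all_eq_true, List.mem_range] at h
  have hcen : y ∈ Subgroup.center Spor.Fi22 := by
    rw [Subgroup.mem_center_iff]
    intro z
    have hz : z ∈ Subgroup.centralizer ({y} : Set Spor.Fi22) := by
      have hle : (⊤ : Subgroup Spor.Fi22) ≤ Subgroup.centralizer ({y} : Set Spor.Fi22) := by
        rw [← g_gen, Subgroup.closure_le]
        rintro _ ⟨s, hs, rfl⟩
        obtain ⟨hl, hg⟩ := gen_word s hs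
        obtain ⟨q, hqdef⟩ : ∃ q, q = piB (ev g (genWords.getD s [])) baseB := ⟨_, rfl⟩
        have hq : piB y q = q := by
          have hgood : Good y ((closure ders orbit13).getD (gpos.getD s 0) start) := by
            by_cases hk : gpos.getD s 0 < (closure ders orbit13).length
            · rw [List.getD_eq_getElem _ _ hk]; exact hall _ (List.getElem_mem hk)
            · rw [List.getD_eq_default _ _ (not_lt.mp hk)]; exact ⟨pnt.2, hf⟩
          rw [Nat.eq_of_beq_eq_true (h.2 s hs).1] at hgood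
          obtain ⟨hlt, hfix⟩ := hgood
          have eq : q = ⟨_, hlt⟩ := by rw [hqdef]; exact Fin.ext (homB.apply_ev _ hl baseB)
          rw [eq]; exact hfix
        have e := fixed_iff.mp hq
        have hbase : piB 1 baseB = baseB := by simp
        have etp : tp q = g s := by
          rw [← hg]
          have := tp_equivariant (y := ev g (genWords.getD s [])) (p := baseB) (q := q) hqdef.symm
          rw [← this, tp]
          have hb : piB (ev g (wordPt baseB)) baseB = baseB := (wordPt_spec baseB).2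
          rw [(commute_tz hb).eq, mul_inv_cancel_right]
        rw [SetLike.mem_coe, Subgroup.mem_centralizer_singleton_iff, ← etp]
        exact e.symm.eq
      exact hle (Subgroup.mem_top z)
    exact Subgroup.mem_centralizer_singleton_iff.1 hz
  rwa [center_eq, Subgroup.mem_bot] at hcen

theorem suborbit_stable {u : Spor.Fi22} (hu : piB u baseB = baseB) (r : Fin actB.N) (h : sb0.mem r = true) :
    sb0.mem (piB u r : Fin actB.N) = true := by
  have hO := sbList_ok (sb0, 7) (by simp [sbList])
  have horb := sb0_ok.orbit_eq sb0_closed homB ⟨7, hO.root_lt⟩ rfl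
  obtain ⟨v, hv, e⟩ := (Set.ext_iff.mp horb r).mpr h
  refine (Set.ext_iff.mp horb (piB u r)).mp ⟨u * v, mul_mem (mem_sh_iff.2 hu) hv, ?_⟩
  rw [map_mul, Equiv.Perm.mul_apply, e]

theorem rel_equivariant {y : Spor.Fi22} {p r : Fin actB.N} :
    rel (piB y p : Fin actB.N) (piB y r : Fin actB.N) = rel p r := by
  have key : ∀ (y : Spor.Fi22) (p r : Fin actB.N), rel p r = true →
      rel (piB y p : Fin actB.N) (piB y r : Fin actB.N) = true := by
    intro y p r h
    have hl := (wordPt_spec p).1
    have hl' := (wordPt_spec (piB y p)).1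
    have e1 : ∀ (w : List ℕ), (∀ s ∈ w, s < 9) → ∀ z : Fin actB.N,
        actB.go w.reverse z = (piB (ev g w)⁻¹ z : Fin actB.N) := fun w hw z => by
      rw [← ev_reverse (fun s _ => g_sq s) _ hw, homB.apply_ev _ (fun s hs => hw s (List.mem_reverse.mp hs))]
    rw [rel, e1 _ hl] at h
    rw [rel, e1 _ hl']
    obtain ⟨u, hu⟩ : ∃ u, u = (ev g (wordPt (piB y p)))⁻¹ * y * ev g (wordPt p) := ⟨_, rfl⟩
    have hfix : piB u baseB = baseB := by
      rw [hu, map_mul, map_mul, Equiv.Perm.mul_apply, Equiv.Perm.mul_apply, (wordPt_spec p).2]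
      exact inv_apply (wordPt_spec (piB y p)).2
    have := suborbit_stable hfix _ h
    rw [← Equiv.Perm.mul_apply, ← map_mul] at this
    rw [← Equiv.Perm.mul_apply, ← map_mul]
    convert this using 5
    rw [hu]; group
  cases hr : rel p r with
  | true => exact key y p r hr
  | false =>
    rw [Bool.eq_false_iff]
    intro h
    have := key y⁻¹ _ _ h
    rw [inv_apply rfl, inv_apply rfl, hr] at this
    exact absurd this (by simp)

theorem card_centralizer_le : Nat.card ↥(Subgroup.centralizer ({x} : Set Spor.Fi22)) ≤ 39 := by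
  classical
  haveI := finite
  let L := candBlock 0 ++ candBlock 1 ++ candBlock 2 ++ candBlock 3 ++ candBlock 4 ++ candBlock 5
  have hlen : L.length ≤ 39 := by
    simpa [L, List.length_append, Nat.add_assoc] using Nat.le_of_ble_eq_true cand_count
  have hmem : ∀ y : ↥(Subgroup.centralizer ({x} : Set Spor.Fi22)),
      ((piB (y : Spor.Fi22) pnt : Fin actB.N) : ℕ) ∈ L.toFinset := by
    intro y
    have hy : Commute (y : Spor.Fi22) x := Subgroup.mem_centralizer_singleton_iff.1 y.2
    obtain ⟨q, hq⟩ : ∃ q, q = piB (y : Spor.Fi22) pnt := ⟨_, rfl⟩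
    rw [← hq]
    have hfits : fits (q : ℕ) = true := by
      have hs := ((Bool.and_eq_true _ _).mp start_ok).2
      simp only [fits, List.all_eq_true, List.mem_range, beq_iff_eq] at hs ⊢
      intro i hi
      rw [← hs i hi, hq, show start = (pnt : ℕ) from rfl, ← xit_eq, ← xit_eq, ← Equiv.Perm.mul_apply,
        ← map_mul, ← (hy.pow_right (i + 1)).eq, map_mul, Equiv.Perm.mul_apply]
      exact rel_equivariant
    have hqlt : (q : ℕ) < 3510 := q.2
    have hb : (q : ℕ) ∈ candBlock ((q : ℕ) / 585) := by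
      rw [candBlock, List.mem_filter]
      refine ⟨List.mem_map.mpr ⟨(q : ℕ) % 585, List.mem_range.mpr (Nat.mod_lt _ (by norm_num)),
        Nat.div_add_mod _ _⟩, hfits⟩
    have hk : (q : ℕ) / 585 < 6 := by omega
    rw [List.mem_toFinset]
    simp only [L, List.mem_append]
    interval_cases ((q : ℕ) / 585) <;> simp [hb]
  have hinj : Function.Injective fun y : ↥(Subgroup.centralizer ({x} : Set Spor.Fi22)) =>
      (⟨_, hmem y⟩ : ↥L.toFinset) := by
    intro y z e
    have e' : piB (y : Spor.Fi22) pnt = piB (z : Spor.Fi22) pnt := Fin.ext (congrArg Subtype.val e)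
    have h1 : (z : Spor.Fi22)⁻¹ * y = 1 := by
      refine eq_one ?_ ?_
      · have hz : Commute (z : Spor.Fi22) x := Subgroup.mem_centralizer_singleton_iff.1 z.2
        exact hz.inv_left.mul_left (Subgroup.mem_centralizer_singleton_iff.1 y.2)
      · rw [map_mul, Equiv.Perm.mul_apply, e', inv_apply rfl]
    exact Subtype.ext (inv_mul_eq_one.mp h1).symm
  have := Nat.card_le_card_of_injective _ hinj
  rw [Nat.card_eq_fintype_card (α := ↥L.toFinset), Fintype.card_coe] at this
  exact this.trans ((List.toFinset_card_le L).trans hlen)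

theorem x_ne_one : x ≠ 1 := fun h => by
  have e := xit_eq pnt 1
  rw [pow_one, h, map_one] at e
  exact Nat.ne_of_beq_eq_false x_ne_ok e.symm

theorem orderOf_x : orderOf x = 13 :=
  haveI : Fact (Nat.Prime 13) := ⟨by norm_num⟩
  orderOf_eq_prime x_pow x_ne_one

theorem conj_x : n * x * n⁻¹ = x ^ 4 := by
  have hn := lt9 (w := nw) (by simp)
  have hx := lt9 (w := xw) (by simp)
  have h4 : ∀ s ∈ xw ++ xw ++ xw ++ xw, s < 9 := by
    intro s hs
    simp only [List.mem_append] at hs
    rcases hs with ((h | h) | h) | h <;> exact hx s h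
  have hl : ∀ s ∈ nw ++ xw ++ nw.reverse ++ (xw ++ xw ++ xw ++ xw).reverse, s < 9 := by
    intro s hs
    rcases List.mem_append.mp hs with hs | hs
    · rcases List.mem_append.mp hs with hs | hs
      · rcases List.mem_append.mp hs with hs | hs
        exacts [hn s hs, hx s hs]
      · exact hn s (List.mem_reverse.mp hs)
    · exact h4 s (List.mem_reverse.mp hs)
  have e := eval_one hl n_ok
  rw [ev_append, ev_append, ev_append, ev_reverse (fun s _ => g_sq s) _ hn,
    ev_reverse (fun s _ => g_sq s) _ h4, ev_append, ev_append, ev_append] at e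
  rw [← n, ← x] at e
  rw [mul_inv_eq_one.mp e]
  simp [pow_succ, mul_assoc]

section Transfer

variable {G : Type*} [Group G] [Finite G] (e : Spor.Fi22 ≃* G)
include e

/-- Subgroups of order thirteen. -/
theorem thirteen : (∀ X Y : Subgroup G, Nat.card X = 13 → Nat.card Y = 13 →
      ∃ h : G, X.map (MulAut.conj h).toMonoidHom = Y) ∧
    ∀ X : Subgroup G, Nat.card X = 13 → Nat.card ↥(Subgroup.normalizer ((X : Subgroup G) : Set G)) = 78 ∧
      Subgroup.centralizer ((X : Subgroup G) : Set G) = X := by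
  classical
  haveI := finite
  haveI : Fact (Nat.Prime 13) := ⟨by norm_num⟩
  have hG : Nat.card G = 64561751654400 := by rw [← Nat.card_congr e.toEquiv, card_eq]
  have hfac : (Nat.card G).factorization 13 = 1 := by
    rw [hG, show 64561751654400 = 13 ^ 1 * 4966288588800 by norm_num,
      Nat.factorization_mul (by norm_num) (by norm_num), Finsupp.add_apply,
      (Fact.out : Nat.Prime 13).factorization_pow, Nat.factorization_eq_zero_of_not_dvd (by norm_num)]
    simp
  let syl : ∀ X : Subgroup G, Nat.card X = 13 → Sylow 13 G := fun X hX =>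
    Sylow.ofCard X (by rw [hfac, hX, pow_one])
  have hconj : ∀ X Y : Subgroup G, Nat.card X = 13 → Nat.card Y = 13 →
      ∃ h : G, X.map (MulAut.conj h).toMonoidHom = Y := by
    intro X Y hX hY
    obtain ⟨h, hh⟩ := MulAction.exists_smul_eq G (syl X hX) (syl Y hY)
    refine ⟨h, ?_⟩
    have := congrArg Sylow.toSubgroup hh
    rw [Sylow.smul_def, Sylow.pointwise_smul_def] at this
    exact this
  refine ⟨hconj, fun X hX => ?_⟩
  obtain ⟨h, hh⟩ := hconj (Subgroup.zpowers (e x)) X
    (by rw [Nat.card_zpowers, e.orderOf_eq, orderOf_x]) hX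
  obtain ⟨z, hz⟩ : ∃ z, z = h * e x * h⁻¹ := ⟨_, rfl⟩
  have hXz : X = Subgroup.zpowers z := by
    rw [← hh, MonoidHom.map_zpowers, hz]
    rfl
  have hzord : orderOf z = 13 := by rw [← Nat.card_zpowers, ← hXz, hX]
  have hzn : (h * e n * h⁻¹) * z * (h * e n * h⁻¹)⁻¹ = z ^ 4 := by
    rw [hz, conj_pow, ← map_pow, ← conj_x, map_mul, map_mul, map_inv]
    group
  have hcle : Nat.card ↥(Subgroup.centralizer ({z} : Set G)) ≤ 39 := by
    refine le_trans (Nat.card_le_card_of_injective
      (fun y => (⟨e.symm (h⁻¹ * (y : G) * h), ?_⟩ : ↥(Subgroup.centralizer ({x} : Set Spor.Fi22)))) ?_)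
      card_centralizer_le
    · rw [Subgroup.mem_centralizer_singleton_iff]
      have hy : (y : G) * z = z * y := Subgroup.mem_centralizer_singleton_iff.1 y.2
      apply e.injective
      rw [map_mul e, map_mul e, e.apply_symm_apply]
      have hex : e x = h⁻¹ * z * h := by rw [hz]; group
      rw [hex]
      calc h⁻¹ * (y : G) * h * (h⁻¹ * z * h) = h⁻¹ * ((y : G) * z) * h := by group
        _ = h⁻¹ * (z * (y : G)) * h := by rw [hy]
        _ = h⁻¹ * z * h * (h⁻¹ * (y : G) * h) := by group
    · intro y y' k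
      have := e.symm.injective (congrArg Subtype.val k)
      exact Subtype.ext (mul_left_cancel (mul_right_cancel this))
  have hXC : Subgroup.centralizer ((X : Subgroup G) : Set G) = Subgroup.centralizer ({z} : Set G) := by
    rw [hXz, Subgroup.zpowers_eq_closure, Subgroup.centralizer_closure]
  have hle : X ≤ Subgroup.centralizer ((X : Subgroup G) : Set G) := by
    rw [hXC, hXz, Subgroup.zpowers_le, Subgroup.mem_centralizer_singleton_iff]
  obtain ⟨C, hC⟩ : ∃ C, C = Subgroup.centralizer ((X : Subgroup G) : Set G) := ⟨_, rfl⟩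
  rw [← hC] at hle hXC ⊢
  obtain ⟨m, hm⟩ := hX ▸ Subgroup.card_dvd_of_le hle
  have hm3 : m ≤ 3 := by
    have h1 : Nat.card ↥C ≤ 39 := hXC ▸ hcle
    omega
  have hm1 : 1 ≤ m := by
    rcases Nat.eq_zero_or_pos m with rfl | k
    · exact absurd hm (by simpa using Nat.card_pos.ne')
    · exact k
  haveI : IsCyclic ↥X := isCyclic_of_prime_card hX
  let N := Subgroup.normalizer ((X : Subgroup G) : Set G)
  let φ : ↥N →* MulAut ↥X := X.normalizerMonoidHom
  have hker : Nat.card ↥φ.ker = Nat.card ↥C := by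
    rw [show φ.ker = _ from X.normalizerMonoidHom_ker, hC]
    exact Nat.card_congr (Subgroup.subgroupOfEquivOfLe (Subgroup.centralizer_le_normalizer _)).toEquiv
  have hN : Nat.card ↥N = Nat.card ↥φ.ker * Nat.card ↥φ.range := by
    rw [← Subgroup.index_ker φ, Subgroup.card_mul_index]
  have hr12 : Nat.card ↥φ.range ∣ 12 := by
    have h12 : Nat.card (MulAut ↥X) = 12 := by
      rw [IsCyclic.card_mulAut, hX]; decide
    exact h12 ▸ Subgroup.card_subgroup_dvd_card _
  have hnN : h * e n * h⁻¹ ∈ N := by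
    have hmap : X.map (MulAut.conj (h * e n * h⁻¹)).toMonoidHom ≤ X := by
      rw [hXz, MonoidHom.map_zpowers, Subgroup.zpowers_le]
      show h * e n * h⁻¹ * z * (h * e n * h⁻¹)⁻¹ ∈ Subgroup.zpowers z
      rw [hzn]; exact pow_mem (Subgroup.mem_zpowers z) 4
    have heq : X.map (MulAut.conj (h * e n * h⁻¹)).toMonoidHom = X := Subgroup.eq_of_le_of_card_ge hmap
      (le_of_eq (Nat.card_congr (X.equivMapOfInjective _ (MulAut.conj _).injective).toEquiv))
    exact Subgroup.mem_normalizer_iff_map_conj_eq.mpr heq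
  have hzX : z ∈ X := by rw [hXz]; exact Subgroup.mem_zpowers z
  have hr6 : 6 ∣ Nat.card ↥φ.range := by
    have key : ∀ i : ℕ, ((φ ⟨_, hnN⟩) ^ i) ⟨z, hzX⟩ = ⟨z, hzX⟩ ^ 4 ^ i := by
      intro i
      induction i with
      | zero => simp
      | succ i ih =>
        rw [pow_succ', MulAut.mul_apply, ih, map_pow,
          show φ ⟨_, hnN⟩ ⟨z, hzX⟩ = (⟨z, hzX⟩ : ↥X) ^ 4 from Subtype.ext hzn, ← pow_mul, pow_succ']
    have hord : orderOf (φ ⟨_, hnN⟩) = 6 := by
      have hne : ∀ i, 4 ^ i % 13 ≠ 1 → (φ ⟨_, hnN⟩) ^ i ≠ 1 := fun i hi k => by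
        have := key i
        rw [k, MulAut.one_apply] at this
        have h1 : z ^ (4 ^ i) = z ^ 1 := by rw [pow_one]; exact (congrArg Subtype.val this).symm
        rw [pow_eq_pow_iff_modEq, hzord] at h1
        exact hi h1
      have h6 : (φ ⟨_, hnN⟩) ^ 6 = 1 := by
        refine MulEquiv.ext fun w => ?_
        obtain ⟨k, hk⟩ : ∃ k : ℤ, (⟨z, hzX⟩ : ↥X) ^ k = w := by
          obtain ⟨k, hk⟩ := Subgroup.mem_zpowers_iff.mp (hXz.le w.2)
          exact ⟨k, Subtype.ext (by simpa using hk)⟩
        rw [← hk, map_zpow, key 6, MulAut.one_apply]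
        congr 1
        refine Subtype.ext ?_
        show z ^ (4 ^ 6) = z
        conv_rhs => rw [← pow_one z]
        rw [pow_eq_pow_iff_modEq, hzord]
        decide
      have hd := orderOf_dvd_of_pow_eq_one h6
      have hd' := pow_orderOf_eq_one (φ ⟨_, hnN⟩)
      have : orderOf (φ ⟨_, hnN⟩) ∈ Nat.divisors 6 := Nat.mem_divisors.mpr ⟨hd, by norm_num⟩
      rw [show Nat.divisors 6 = {1, 2, 3, 6} by decide] at this
      simp only [Finset.mem_insert, Finset.mem_singleton] at this
      rcases this with k | k | k | k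
      · exact absurd (k ▸ hd') (hne 1 (by norm_num))
      · exact absurd (k ▸ hd') (hne 2 (by norm_num))
      · exact absurd (k ▸ hd') (hne 3 (by norm_num))
      · exact k
    have := Subgroup.card_dvd_of_le (show Subgroup.zpowers (φ ⟨_, hnN⟩) ≤ φ.range from
      Subgroup.zpowers_le.mpr ⟨_, rfl⟩)
    rwa [Nat.card_zpowers, hord] at this
  obtain ⟨r, hr⟩ := hr6
  have hr2 : r = 1 ∨ r = 2 := by
    have h1 := Nat.le_of_dvd (by norm_num) hr12
    have h2 : 0 < Nat.card ↥φ.range := Nat.card_pos
    omega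
  have hsyl := card_sylow_modEq_one 13 G
  rw [Sylow.card_eq_index_normalizer (syl X hX)] at hsyl
  have hidx := Subgroup.index_mul_card N
  rw [hN, hker, hm, hr, hG] at hidx
  have hmod : N.index % 13 = 1 := hsyl
  have h1 : m = 1 ∧ r = 1 := by
    rcases hr2 with rfl | rfl <;> interval_cases m <;> omega
  obtain ⟨rfl, rfl⟩ := h1
  refine ⟨by rw [hN, hker, hm, hr], (Subgroup.eq_of_le_of_card_ge hle ?_).symm⟩
  rw [hm, hX]

end Transfer

end Cfsg.Agent.Fus.M22U.Thirteen
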